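import Mathlib

/-!
A non-trivial word is not a law in the alternating groups of large degree: a reduced word of length `n` acts
non-trivially on `n + 1` points, and `Sym(m)` embeds into the even permutations of `m + 2` points.
-/

set_option autoImplicit false

namespace Cfsg.Agent.WordLaws

open Equiv

/-- The edge prescribed by position `k` of a word: `(source, target)` on `Fin (L.length + 1)`. -/
def edge (L : List (ℕ × Bool)) (k : Fin L.length) : Fin (L.length + 1) × Fin (L.length + 1) :=
  bif L[k.val].2 then (k.succ, k.castSucc) else (k.castSucc, k.succ)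

theorem exists_perm_rep (L : List (ℕ × Bool)) (hL : FreeGroup.IsReduced L) :
    ∃ σ : ℕ → Perm (Fin (L.length + 1)),
      FreeGroup.lift σ (FreeGroup.mk L) (Fin.last L.length) = 0 := by
  classical
  have key : ∀ i : ℕ, ∃ σ : Perm (Fin (L.length + 1)), ∀ k : Fin L.length,
      L[k.val].1 = i → σ (edge L k).1 = (edge L k).2 := by
    intro i
    let ι := {k : Fin L.length // L[k.val].1 = i}
    have hred : ∀ k l : Fin L.length, l.val = k.val + 1 → L[k.val].1 = L[l.val].1 → L[k.val].2 = L[l.val].2 := by
      intro k l hkl h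
      have := List.isChain_iff_getElem.1 hL k.val (by omega)
      simp only [hkl] at h ⊢
      exact this h
    have hinj : ∀ (s : Bool), Function.Injective (fun k : ι => bif s then (edge L k.1).1 else (edge L k.1).2) := by
      intro s ⟨k, hk⟩ ⟨l, hl⟩ h
      apply Subtype.ext
      apply Fin.ext
      show k.val = l.val
      have hv := congrArg Fin.val h
      rcases lt_trichotomy k.val l.val with hlt | heq | hgt
      · cases s <;> simp only [edge, cond] at hv <;>
          rcases hbk : L[k.val].2 <;> rcases hbl : L[l.val].2 <;> simp [hbk, hbl] at hv <;>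
          first
            | omega
            | (have e := hred k l (by omega) (by rw [hk, hl]); rw [hbk, hbl] at e; exact absurd e (by simp))
      · exact heq
      · cases s <;> simp only [edge, cond] at hv <;>
          rcases hbk : L[k.val].2 <;> rcases hbl : L[l.val].2 <;> simp [hbk, hbl] at hv <;>
          first
            | omega
            | (have e := hred l k (by omega) (by rw [hk, hl]); rw [hbk, hbl] at e; exact absurd e (by simp))
    obtain ⟨σ, hσ⟩ := Equiv.Perm.exists_extending_pair _ _ (hinj true) (hinj false)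
    exact ⟨σ, fun k hk => by simpa using hσ ⟨k, hk⟩⟩
  choose σ hσ using key
  refine ⟨σ, ?_⟩
  rw [FreeGroup.lift_mk]
  suffices h : ∀ j : ℕ, ∀ hj : j ≤ L.length,
      ((L.drop j).map fun x => cond x.2 (σ x.1) (σ x.1)⁻¹).prod (Fin.last L.length) = ⟨j, by omega⟩ by
    simpa using h 0 (Nat.zero_le _)
  intro j hj
  induction hm : L.length - j generalizing j with
  | zero =>
    have : j = L.length := by omega
    subst this
    simp [Fin.last]
  | succ d ih =>
    have hjlt : j < L.length := by omega
    rw [List.drop_eq_getElem_cons hjlt, List.map_cons, List.prod_cons, Perm.mul_apply,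
      ih (j + 1) hjlt (by omega)]
    have := hσ (L[j]).1 ⟨j, hjlt⟩ rfl
    rcases hb : (L[j]).2 with _ | _
    · simp only [edge, hb, cond] at this ⊢
      rw [Perm.inv_eq_iff_eq]
      exact this.symm
    · simp only [edge, hb, cond] at this ⊢
      exact this

/-- A non-trivial word takes a non-trivial value in every alternating group of large degree. -/
theorem exists_alternating_value (w : FreeGroup ℕ) (hw : w ≠ 1) :
    ∃ N : ℕ, ∀ n : ℕ, N ≤ n → ∃ f : ℕ → alternatingGroup (Fin n), FreeGroup.lift f w ≠ 1 := by
  classical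
  set L := w.toWord with hLdef
  have hne : L ≠ [] := fun e => hw (FreeGroup.toWord_eq_nil_iff.1 e)
  obtain ⟨σ, hσ⟩ := exists_perm_rep L FreeGroup.isReduced_toWord
  have hmk : FreeGroup.mk L = w := FreeGroup.mk_toWord
  rw [hmk] at hσ
  refine ⟨L.length + 3, fun n hn => ?_⟩
  let sgn : Perm (Fin 2) ≃* ℤˣ := MulEquiv.ofBijective Perm.sign (by
    rw [Fintype.bijective_iff_injective_and_card]
    exact ⟨by decide, by decide⟩)
  let ι : Fin (L.length + 1) ⊕ Fin 2 ↪ Fin n :=
    finSumFinEquiv.toEmbedding.trans (Fin.castLEEmb (by omega))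
  let Φ : Perm (Fin (L.length + 1)) →* Perm (Fin n) :=
    (Perm.viaEmbeddingHom ι).comp
      ((Perm.sumCongrHom _ _).comp ((MonoidHom.id _).prod (sgn.symm.toMonoidHom.comp Perm.sign)))
  have hsign : ∀ x, Φ x ∈ alternatingGroup (Fin n) := by
    intro x
    rw [Perm.mem_alternatingGroup]
    have h1 : Perm.sign (sgn.symm (Perm.sign x)) = Perm.sign x := sgn.apply_symm_apply _
    simp only [Φ, MonoidHom.comp_apply, MonoidHom.prod_apply, MonoidHom.id_apply,
      Perm.viaEmbeddingHom_apply, Perm.viaEmbedding, Perm.sign_extendDomain]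
    rw [show Perm.sumCongrHom (Fin (L.length + 1)) (Fin 2) (x, sgn.symm.toMonoidHom (Perm.sign x))
      = Perm.sumCongr x (sgn.symm (Perm.sign x)) from rfl, Perm.sign_sumCongr, h1, Int.units_mul_self]
  let Ψ : Perm (Fin (L.length + 1)) →* alternatingGroup (Fin n) := Φ.codRestrict _ hsign
  refine ⟨fun i => Ψ (σ i), fun h => ?_⟩
  have e : FreeGroup.lift (fun i => Ψ (σ i)) = Ψ.comp (FreeGroup.lift σ) := by
    ext i; simp
  rw [e, MonoidHom.comp_apply] at h
  have h2 : Φ (FreeGroup.lift σ w) = 1 := congrArg Subtype.val h
  have h3 := DFunLike.congr_fun h2 (ι (Sum.inl (Fin.last L.length)))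
  simp only [Φ, MonoidHom.comp_apply, Perm.viaEmbeddingHom_apply, Perm.viaEmbedding_apply,
    Perm.one_apply] at h3
  have h4 := ι.injective h3
  simp only [MonoidHom.prod_apply, MonoidHom.id_apply] at h4
  change Sum.inl (FreeGroup.lift σ w (Fin.last L.length)) = Sum.inl (Fin.last L.length) at h4
  rw [hσ] at h4
  have := congrArg Fin.val (Sum.inl_injective h4)
  simp only [Fin.val_zero, Fin.val_last] at this
  exact hne (List.eq_nil_of_length_eq_zero this.symm)

end Cfsg.Agent.WordLaws
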