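import Mathlib

/-!
Segments of a reduced word under a substitution `x_i ↦ u(a_i) v u(b_i)`, and the degree argument in `SL₂`.
-/

set_option autoImplicit false

namespace Cfsg.Agent.WordLaws

open Polynomial

section Segments

variable {M : Type*} [AddCommGroup M] (a b : ℕ → M)

/-- The left end of the image of a letter. -/
def leftPart (x : ℕ × Bool) : M := bif x.2 then a x.1 else -b x.1

/-- The right end of the image of a letter. -/
def rightPart (x : ℕ × Bool) : M := bif x.2 then b x.1 else -a x.1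

/-- The segments `(sign, middle parameter)` of the image of a word. -/
def segs : List (ℕ × Bool) → List (Bool × M)
  | [] => []
  | [x] => [(x.2, rightPart a b x)]
  | x :: y :: L => (x.2, rightPart a b x + leftPart a b y) :: segs (y :: L)

theorem lift_eq_segs {G : Type*} [Group G] (u : M → G) (hu : ∀ x y, u (x + y) = u x * u y) (v : G)
    (x : ℕ × Bool) (L : List (ℕ × Bool)) :
    FreeGroup.lift (fun i => u (a i) * v * u (b i)) (FreeGroup.mk (x :: L)) =
      u (leftPart a b x) * ((segs a b (x :: L)).map fun s => cond s.1 v v⁻¹ * u s.2).prod := by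
  have h0 : u 0 = 1 := by
    have := hu 0 0
    rw [add_zero] at this
    exact mul_eq_left.1 this.symm
  have hneg : ∀ p, u (-p) = (u p)⁻¹ := fun p => by
    rw [eq_inv_iff_mul_eq_one, ← hu, neg_add_cancel, h0]
  have letter : ∀ y : ℕ × Bool, cond y.2 (u (a y.1) * v * u (b y.1)) (u (a y.1) * v * u (b y.1))⁻¹ =
      u (leftPart a b y) * (cond y.2 v v⁻¹ * u (rightPart a b y)) := by
    rintro ⟨i, _ | _⟩ <;> simp [leftPart, rightPart, hneg, mul_assoc]
  rw [FreeGroup.lift_mk]
  induction L generalizing x with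
  | nil =>
    simp only [List.map_cons, List.map_nil, List.prod_cons, List.prod_nil, mul_one, segs]
    exact letter x
  | cons y L ih =>
    rw [List.map_cons, List.prod_cons, ih y, letter]
    simp [segs, hu, mul_assoc]

theorem segs_forall (P : M → Prop) (h2 : ∀ x, P (rightPart a b x))
    (h3 : ∀ x y : ℕ × Bool, (x.1 = y.1 → x.2 = y.2) → P (rightPart a b x + leftPart a b y)) :
    ∀ L : List (ℕ × Bool), FreeGroup.IsReduced L → ∀ s ∈ segs a b L, P s.2
  | [], _ => by simp [segs]
  | [x], _ => by simpa [segs] using h2 x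
  | x :: y :: L, h => by
    rw [FreeGroup.isReduced_cons_cons] at h
    intro s hs
    rcases List.mem_cons.1 hs with rfl | hs
    · exact h3 x y h.1
    · exact segs_forall P h2 h3 (y :: L) h.2 s hs

end Segments

section Parameters

variable (R : Type*) [CommRing R] [IsDomain R]

/-- The parameters `a_i = X^(2i+1)`. -/
noncomputable def parA (i : ℕ) : R[X] := X ^ (2 * i + 1)

/-- The parameters `b_i = X^(2i+2)`. -/
noncomputable def parB (i : ℕ) : R[X] := X ^ (2 * i + 2)

/-- Polynomials of positive degree with invertible leading coefficient. -/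
def Good (p : R[X]) : Prop := IsUnit p.leadingCoeff ∧ 1 ≤ p.natDegree

variable {R}

theorem good_monomial (c : R) (hc : IsUnit c) (i : ℕ) (hi : 1 ≤ i) : Good R (C c * X ^ i) := by
  refine ⟨?_, ?_⟩
  · simpa using hc
  · rwa [natDegree_C_mul_X_pow i c hc.ne_zero]

theorem good_binomial (c d : R) (hc : IsUnit c) (hd : IsUnit d) (i j : ℕ) (hi : 1 ≤ i) (hj : 1 ≤ j)
    (hij : i ≠ j) : Good R (C c * X ^ i + C d * X ^ j) := by
  rcases lt_or_gt_of_ne hij with h | h
  · have hdeg : (C c * X ^ i).degree < (C d * X ^ j).degree := by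
      rw [degree_C_mul_X_pow i hc.ne_zero, degree_C_mul_X_pow j hd.ne_zero]
      exact_mod_cast h
    refine ⟨?_, ?_⟩
    · rw [leadingCoeff_add_of_degree_lt hdeg]; simpa using hd
    · rw [natDegree_add_eq_right_of_degree_lt hdeg, natDegree_C_mul_X_pow j d hd.ne_zero]; exact hj
  · have hdeg : (C d * X ^ j).degree < (C c * X ^ i).degree := by
      rw [degree_C_mul_X_pow i hc.ne_zero, degree_C_mul_X_pow j hd.ne_zero]
      exact_mod_cast h
    refine ⟨?_, ?_⟩
    · rw [leadingCoeff_add_of_degree_lt' hdeg]; simpa using hc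
    · rw [natDegree_add_eq_left_of_degree_lt hdeg, natDegree_C_mul_X_pow i c hc.ne_zero]; exact hi

theorem good_left (x : ℕ × Bool) : Good R (leftPart (parA R) (parB R) x) := by
  rcases x with ⟨i, _ | _⟩
  · simpa [leftPart, parB] using good_monomial (-1 : R) isUnit_one.neg (2 * i + 2) (by omega)
  · simpa [leftPart, parA] using good_monomial (1 : R) isUnit_one (2 * i + 1) (by omega)

theorem good_right (x : ℕ × Bool) : Good R (rightPart (parA R) (parB R) x) := by
  rcases x with ⟨i, _ | _⟩
  · simpa [rightPart, parA] using good_monomial (-1 : R) isUnit_one.neg (2 * i + 1) (by omega)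
  · simpa [rightPart, parB] using good_monomial (1 : R) isUnit_one (2 * i + 2) (by omega)

theorem good_mid (x y : ℕ × Bool) (h : x.1 = y.1 → x.2 = y.2) :
    Good R (rightPart (parA R) (parB R) x + leftPart (parA R) (parB R) y) := by
  rcases x with ⟨i, _ | _⟩ <;> rcases y with ⟨j, _ | _⟩
  · simpa [rightPart, leftPart, parA, parB] using
      good_binomial (-1 : R) (-1) isUnit_one.neg isUnit_one.neg (2 * i + 1) (2 * j + 2) (by omega) (by omega) (by omega)
  · simpa [rightPart, leftPart, parA, parB] using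
      good_binomial (-1 : R) 1 isUnit_one.neg isUnit_one (2 * i + 1) (2 * j + 1) (by omega) (by omega)
        (fun e => by simpa using h (show i = j by omega))
  · simpa [rightPart, leftPart, parA, parB] using
      good_binomial (1 : R) (-1) isUnit_one isUnit_one.neg (2 * i + 2) (2 * j + 2) (by omega) (by omega)
        (fun e => by simpa using h (show i = j by omega))
  · simpa [rightPart, leftPart, parA, parB] using
      good_binomial (1 : R) 1 isUnit_one isUnit_one (2 * i + 2) (2 * j + 1) (by omega) (by omega) (by omega)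

theorem segs_good (L : List (ℕ × Bool)) (hL : FreeGroup.IsReduced L) :
    ∀ s ∈ segs (parA R) (parB R) L, Good R s.2 :=
  segs_forall _ _ _ good_right good_mid L hL

theorem exists_eval_ne_zero {F : Type*} [Field F] [Fintype F] (P : F[X]) (hP : P ≠ 0)
    (hdeg : P.natDegree < Fintype.card F) : ∃ t : F, P.eval t ≠ 0 := by
  classical
  by_contra h
  push Not at h
  have : (Finset.univ : Finset F) ⊆ P.roots.toFinset := fun t _ => by
    rw [Multiset.mem_toFinset, mem_roots hP]; exact h t
  have := (Finset.card_le_card this).trans ((Multiset.toFinset_card_le _).trans P.card_roots')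
  rw [Finset.card_univ] at this
  omega

end Parameters

section SL2

/-- Upper unitriangular element. -/
def upper2 {R : Type*} [CommRing R] (p : R) : Matrix.SpecialLinearGroup (Fin 2) R :=
  ⟨!![1, p; 0, 1], by simp [Matrix.det_fin_two]⟩

/-- Lower unitriangular element. -/
def lower2 {R : Type*} [CommRing R] (p : R) : Matrix.SpecialLinearGroup (Fin 2) R :=
  ⟨!![1, 0; p, 1], by simp [Matrix.det_fin_two]⟩

theorem upper2_coe {R : Type*} [CommRing R] (p : R) :
    (upper2 p : Matrix (Fin 2) (Fin 2) R) = !![1, p; 0, 1] := rfl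

theorem lower2_coe {R : Type*} [CommRing R] (p : R) :
    (lower2 p : Matrix (Fin 2) (Fin 2) R) = !![1, 0; p, 1] := rfl

theorem lower2_inv_coe {R : Type*} [CommRing R] (p : R) :
    (((lower2 p)⁻¹ : Matrix.SpecialLinearGroup (Fin 2) R) : Matrix (Fin 2) (Fin 2) R) = !![1, 0; -p, 1] := by
  rw [Matrix.SpecialLinearGroup.coe_inv, lower2_coe, Matrix.adjugate_fin_two]
  simp

theorem upper2_add {R : Type*} [CommRing R] (p q : R) : upper2 (p + q) = upper2 p * upper2 q := by
  ext i j
  rw [Matrix.SpecialLinearGroup.coe_mul]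
  fin_cases i <;> fin_cases j <;> simp [upper2, add_comm]

/-- For a non-trivial word there is a substitution in `SL₂` of every large field whose value has a non-zero
upper right entry. -/
theorem exists_sl2_value.{u} (w : FreeGroup ℕ) (hw : w ≠ 1) :
    ∃ N : ℕ, ∀ (F : Type u) [Field F] [Fintype F], N ≤ Fintype.card F →
      ∃ f : ℕ → Matrix.SpecialLinearGroup (Fin 2) F,
        ((FreeGroup.lift f w : Matrix.SpecialLinearGroup (Fin 2) F) : Matrix (Fin 2) (Fin 2) F) 0 1 ≠ 0 := by
  classical
  obtain ⟨x, L, hxL⟩ : ∃ x L, w.toWord = x :: L := by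
    cases h : w.toWord with
    | nil => exact absurd (FreeGroup.toWord_eq_nil_iff.1 h) hw
    | cons x L => exact ⟨x, L, rfl⟩
  have hred : FreeGroup.IsReduced (x :: L) := hxL ▸ FreeGroup.isReduced_toWord
  have hw' : FreeGroup.mk (x :: L) = w := hxL ▸ FreeGroup.mk_toWord
  set f₀ : ℕ → Matrix.SpecialLinearGroup (Fin 2) ℤ[X] :=
    fun i => upper2 (parA ℤ i) * lower2 X * upper2 (parB ℤ i) with hf₀
  have hval := lift_eq_segs (parA ℤ) (parB ℤ) upper2 upper2_add (lower2 (X : ℤ[X])) x L
  rw [hw'] at hval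
  have tail : ∀ l : List (Bool × ℤ[X]), (∀ s ∈ l, Good ℤ s.2) →
      let T := ((l.map fun s => cond s.1 (lower2 X) (lower2 (X : ℤ[X]))⁻¹ * upper2 s.2).prod : Matrix.SpecialLinearGroup (Fin 2) ℤ[X])
      IsUnit (T 1 1).leadingCoeff ∧ (T 0 1).degree < (T 1 1).degree := by
    intro l
    induction l with
    | nil => intro _; simp
    | cons s l ih =>
      intro h
      obtain ⟨hy, hxy⟩ := ih (fun t ht => h t (List.mem_cons_of_mem _ ht))
      obtain ⟨hp, hpd⟩ := h s List.mem_cons_self
      simp only [List.map_cons, List.prod_cons]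
      set T := (l.map fun s => cond s.1 (lower2 X) (lower2 (X : ℤ[X]))⁻¹ * upper2 s.2).prod
      have hy0 : T 1 1 ≠ 0 := fun e => by simp [e] at hy
      have hp0 : s.2 ≠ 0 := fun e => by simp [e] at hp
      have hlt : (T 1 1).degree < (s.2 * T 1 1).degree := by
        rw [degree_mul, degree_eq_natDegree hp0, degree_eq_natDegree hy0]
        exact_mod_cast Nat.lt_add_of_pos_left hpd
      set x' := T 0 1 + s.2 * T 1 1 with hx'
      have hx'lc : IsUnit x'.leadingCoeff := by
        rw [hx', leadingCoeff_add_of_degree_lt (hxy.trans hlt), leadingCoeff_mul]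
        exact hp.mul hy
      have hyx : (T 1 1).degree < x'.degree := by
        rwa [hx', degree_add_eq_right_of_degree_lt (hxy.trans hlt)]
      have hx'0 : x' ≠ 0 := fun e => by simp [e] at hx'lc
      obtain ⟨c, hc, hcu⟩ : ∃ c : ℤ, ((cond s.1 (lower2 X) (lower2 (X : ℤ[X]))⁻¹ : Matrix.SpecialLinearGroup (Fin 2) ℤ[X]) : Matrix (Fin 2) (Fin 2) ℤ[X]) = !![1, 0; C c * X, 1] ∧ IsUnit c := by
        cases s.1
        · exact ⟨-1, by simp [lower2_coe, Matrix.adjugate_fin_two], isUnit_one.neg⟩
        · exact ⟨1, by simp [lower2_coe], isUnit_one⟩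
      have e0 : ((cond s.1 (lower2 X) (lower2 (X : ℤ[X]))⁻¹ * upper2 s.2 * T : Matrix.SpecialLinearGroup (Fin 2) ℤ[X]) : Matrix (Fin 2) (Fin 2) ℤ[X]) 0 1 = x' := by
        simp [Matrix.SpecialLinearGroup.coe_mul, hc, upper2_coe, Matrix.mul_apply, hx']
      have e1 : ((cond s.1 (lower2 X) (lower2 (X : ℤ[X]))⁻¹ * upper2 s.2 * T : Matrix.SpecialLinearGroup (Fin 2) ℤ[X]) : Matrix (Fin 2) (Fin 2) ℤ[X]) 1 1 = C c * X * x' + T 1 1 := by
        simp [Matrix.SpecialLinearGroup.coe_mul, hc, upper2_coe, Matrix.mul_apply, hx']; ring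
      rw [e0, e1]
      have hlt2 : x'.degree < (C c * X * x').degree := by
        rw [degree_mul, degree_C_mul_X hcu.ne_zero, degree_eq_natDegree hx'0]
        exact_mod_cast Nat.lt_add_of_pos_left one_pos
      refine ⟨?_, ?_⟩
      · rw [leadingCoeff_add_of_degree_lt' (hyx.trans hlt2), leadingCoeff_mul, leadingCoeff_C_mul_X]
        exact hcu.mul hx'lc
      · rwa [degree_add_eq_left_of_degree_lt (hyx.trans hlt2)]
  obtain ⟨hy, hxy⟩ := tail _ (segs_good (x :: L) hred)
  set T := ((segs (parA ℤ) (parB ℤ) (x :: L)).map fun s => cond s.1 (lower2 X) (lower2 (X : ℤ[X]))⁻¹ * upper2 s.2).prod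
  obtain ⟨hp, hpd⟩ := good_left (R := ℤ) x
  set p := leftPart (parA ℤ) (parB ℤ) x
  set P : ℤ[X] := T 0 1 + p * T 1 1 with hPdef
  have hlt : (T 1 1).degree < (p * T 1 1).degree := by
    have hy0 : T 1 1 ≠ 0 := fun e => by simp [e] at hy
    have hp0 : p ≠ 0 := fun e => by simp [e] at hp
    rw [degree_mul, degree_eq_natDegree hp0, degree_eq_natDegree hy0]
    exact_mod_cast Nat.lt_add_of_pos_left hpd
  have hPlc : IsUnit P.leadingCoeff := by
    rw [hPdef, leadingCoeff_add_of_degree_lt (hxy.trans hlt), leadingCoeff_mul]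
    exact hp.mul hy
  refine ⟨P.natDegree + 1, fun F _ _ hF => ?_⟩
  let ι : ℤ →+* F := Int.castRingHom F
  have hne : ι P.leadingCoeff ≠ 0 := (hPlc.map ι).ne_zero
  have hmap : (P.map ι) ≠ 0 := by
    intro e
    have := congrArg (fun q => q.coeff P.natDegree) e
    simp only [coeff_map, coeff_zero] at this
    exact hne this
  obtain ⟨t, ht⟩ := exists_eval_ne_zero (P.map ι) hmap
    (lt_of_le_of_lt natDegree_map_le (by omega))
  let Φ : Matrix.SpecialLinearGroup (Fin 2) ℤ[X] →* Matrix.SpecialLinearGroup (Fin 2) F :=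
    Matrix.SpecialLinearGroup.map (eval₂RingHom ι t)
  refine ⟨fun i => Φ (f₀ i), ?_⟩
  have e : FreeGroup.lift (fun i => Φ (f₀ i)) = Φ.comp (FreeGroup.lift f₀) := by ext i; simp
  rw [e, MonoidHom.comp_apply, hval]
  rw [eval_map] at ht
  intro h
  refine ht ?_
  rw [← h]
  simp [Φ, Matrix.SpecialLinearGroup.coe_mul, upper2_coe, Matrix.mul_apply, hPdef, T, p]

end SL2

end Cfsg.Agent.WordLaws
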