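import Mathlib
import Cfsg.Prelude.Def_Classical
import Cfsg.Agent.Classical.LinearBasic
import Cfsg.Agent.WordLaws.Perm
import Cfsg.Agent.WordLaws.PingPong

/-!
Embeddings of `SL_k` and of alternating groups into the classical groups, used to show that a word is not a law
in classical groups of large rank or over large fields.
-/

set_option autoImplicit false

namespace Cfsg.Agent.WordLaws

open Matrix

theorem map_not_mem_center {H K : Type*} [Group H] [Group K] (ψ : H →* K) (hψ : Function.Injective ψ)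
    {x : H} (hx : x ∉ Subgroup.center H) : ψ x ∉ Subgroup.center K := fun h =>
  hx (Subgroup.mem_center_iff.2 fun y => hψ (by rw [map_mul, map_mul]; exact Subgroup.mem_center_iff.1 h _))

theorem lift_map {H K : Type*} [Group H] [Group K] (ψ : H →* K) (f : ℕ → H) (w : FreeGroup ℕ) :
    FreeGroup.lift (fun i => ψ (f i)) w = ψ (FreeGroup.lift f w) := by
  have e : FreeGroup.lift (fun i => ψ (f i)) = ψ.comp (FreeGroup.lift f) := by ext i; simp
  rw [e]; rfl

/-- A non-central value survives in the quotient by the centre of any overgroup. -/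
theorem exists_value_quotient {H K : Type*} [Group H] [Group K] (ψ : H →* K) (hψ : Function.Injective ψ)
    (w : FreeGroup ℕ) (f : ℕ → H) (h : FreeGroup.lift f w ∉ Subgroup.center H) :
    ∃ f' : ℕ → K ⧸ Subgroup.center K, FreeGroup.lift f' w ≠ 1 := by
  refine ⟨fun i => QuotientGroup.mk' (Subgroup.center K) (ψ (f i)), ?_⟩
  rw [lift_map (QuotientGroup.mk' _) (fun i => ψ (f i)), lift_map]
  rw [Ne, QuotientGroup.mk'_apply, QuotientGroup.eq_one_iff]
  exact map_not_mem_center ψ hψ h

/-- Transport of a non-trivial value along an isomorphism. -/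
theorem exists_value_equiv {G H : Type*} [Group G] [Group H] (e : G ≃* H) (w : FreeGroup ℕ)
    (h : ∃ f : ℕ → H, FreeGroup.lift f w ≠ 1) : ¬ ∀ f : ℕ → G, FreeGroup.lift f w = 1 := by
  obtain ⟨f, hf⟩ := h
  intro hall
  refine hf ?_
  have h2 := lift_map e.toMonoidHom (fun i => e.symm (f i)) w
  rw [hall, map_one] at h2
  simpa using h2

section Field

variable {F : Type} [Field F]

/-- Permutation matrices of even permutations. -/
def permSL {ι : Type} [Fintype ι] [DecidableEq ι] : alternatingGroup ι →* SpecialLinearGroup ι F where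
  toFun σ := ⟨(σ.1⁻¹).permMatrix F, by
    rw [det_permutation, Equiv.Perm.sign_inv, Equiv.Perm.mem_alternatingGroup.1 σ.2]; simp⟩
  map_one' := Subtype.ext (by simp)
  map_mul' σ τ := Subtype.ext (by
    show ((σ.1 * τ.1)⁻¹).permMatrix F = _
    rw [_root_.mul_inv_rev, permMatrix_mul]
    rfl)

theorem permSL_injective {ι : Type} [Fintype ι] [DecidableEq ι] :
    Function.Injective (permSL (F := F) (ι := ι)) := by
  intro σ τ h
  have h2 : (σ.1⁻¹).permMatrix F = (τ.1⁻¹).permMatrix F := congrArg Subtype.val h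
  apply Subtype.ext
  rw [← _root_.inv_inj]
  refine Equiv.ext fun i => ?_
  by_contra hne
  have h3 := congrFun (congrFun h2 i) (σ.1⁻¹ i)
  simp [Equiv.Perm.permMatrix, PEquiv.toMatrix_apply] at h3
  exact hne h3.symm

/-- The block embedding of `SL_k`. -/
def blockSL {κ μ ι : Type} [Fintype κ] [DecidableEq κ] [Fintype μ] [DecidableEq μ] [Fintype ι] [DecidableEq ι]
    (e : κ ⊕ μ ≃ ι) : SpecialLinearGroup κ F →* SpecialLinearGroup ι F where
  toFun g := ⟨Matrix.reindex e e (fromBlocks g.1 0 0 1), by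
    rw [Matrix.det_reindex_self, Matrix.det_fromBlocks_zero₁₂, g.2, Matrix.det_one, mul_one]⟩
  map_one' := Subtype.ext (by simp [fromBlocks_one])
  map_mul' g h := by
    apply Subtype.ext
    show _ = Matrix.reindex e e (fromBlocks (g : Matrix κ κ F) 0 0 1) * Matrix.reindex e e (fromBlocks (h : Matrix κ κ F) 0 0 1)
    simp [submatrix_mul_equiv, fromBlocks_multiply]

theorem blockSL_injective {κ μ ι : Type} [Fintype κ] [DecidableEq κ] [Fintype μ] [DecidableEq μ] [Fintype ι]
    [DecidableEq ι] (e : κ ⊕ μ ≃ ι) : Function.Injective (blockSL (F := F) e) := by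
  intro g h hgh
  have h2 : Matrix.reindex e e (fromBlocks g.1 0 0 (1 : Matrix μ μ F)) = Matrix.reindex e e (fromBlocks h.1 0 0 1) :=
    congrArg Subtype.val hgh
  rw [(Matrix.reindex e e).injective.eq_iff, fromBlocks_inj] at h2
  exact Subtype.ext h2.1

/-- `A ↦ diag(A, A⁻ᵀ)` as matrices. -/
def doubleHom (m : ℕ) : SpecialLinearGroup (Fin m) F →* Matrix (Fin m ⊕ Fin m) (Fin m ⊕ Fin m) F where
  toFun A := fromBlocks (A : Matrix (Fin m) (Fin m) F) 0 0 ((A⁻¹ : SpecialLinearGroup (Fin m) F) : Matrix (Fin m) (Fin m) F)ᵀ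
  map_one' := by simp [fromBlocks_one]
  map_mul' A B := by
    rw [_root_.mul_inv_rev]
    simp [-Matrix.SpecialLinearGroup.coe_inv, fromBlocks_multiply, Matrix.SpecialLinearGroup.coe_mul]

theorem doubleHom_injective (m : ℕ) : Function.Injective (doubleHom (F := F) m) := fun A B h =>
  Subtype.ext (fromBlocks_inj.1 h).1

theorem inv_transpose_mul {m : ℕ} (A : SpecialLinearGroup (Fin m) F) :
    (A : Matrix (Fin m) (Fin m) F)ᵀ * ((A⁻¹ : SpecialLinearGroup (Fin m) F) : Matrix (Fin m) (Fin m) F)ᵀ = 1 := by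
  rw [← transpose_mul, show ((A⁻¹ : SpecialLinearGroup (Fin m) F) : Matrix (Fin m) (Fin m) F) * (A : Matrix (Fin m) (Fin m) F) = 1
    from congrArg Subtype.val (inv_mul_cancel A), transpose_one]

theorem doubleHom_mem_symplectic {m : ℕ} (A : SpecialLinearGroup (Fin m) F) :
    doubleHom m A ∈ Matrix.symplecticGroup (Fin m) F := by
  rw [SymplecticGroup.mem_iff]
  have h1 : (A : Matrix (Fin m) (Fin m) F) * ((A⁻¹ : SpecialLinearGroup (Fin m) F) : Matrix (Fin m) (Fin m) F) = 1 :=
    congrArg Subtype.val (mul_inv_cancel A)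
  have h2 := inv_transpose_mul A
  have h3 : ((A⁻¹ : SpecialLinearGroup (Fin m) F) : Matrix (Fin m) (Fin m) F)ᵀ * (A : Matrix (Fin m) (Fin m) F)ᵀ = 1 := by rw [← transpose_mul, h1, transpose_one]
  simp only [doubleHom, MonoidHom.coe_mk, OneHom.coe_mk, Matrix.J, fromBlocks_transpose, fromBlocks_multiply]
  simp [-Matrix.SpecialLinearGroup.coe_inv, h1, h3]

theorem doubleHom_quadFormPlus {m : ℕ} (A : SpecialLinearGroup (Fin m) F) (v : Fin m ⊕ Fin m → F) :
    Cfsg.quadFormPlus m F (doubleHom m A *ᵥ v) = Cfsg.quadFormPlus m F v := by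
  have e : doubleHom m A *ᵥ v = Sum.elim ((A : Matrix (Fin m) (Fin m) F) *ᵥ (v ∘ Sum.inl)) (((A⁻¹ : SpecialLinearGroup (Fin m) F) : Matrix (Fin m) (Fin m) F)ᵀ *ᵥ (v ∘ Sum.inr)) := by
    simp [doubleHom, fromBlocks_mulVec]
  rw [e]
  show ((A : Matrix (Fin m) (Fin m) F) *ᵥ (v ∘ Sum.inl)) ⬝ᵥ (((A⁻¹ : SpecialLinearGroup (Fin m) F) : Matrix (Fin m) (Fin m) F)ᵀ *ᵥ (v ∘ Sum.inr)) = (v ∘ Sum.inl) ⬝ᵥ (v ∘ Sum.inr)
  rw [dotProduct_mulVec, ← mulVec_transpose, transpose_transpose, mulVec_mulVec,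
    show ((A⁻¹ : SpecialLinearGroup (Fin m) F) : Matrix (Fin m) (Fin m) F) * (A : Matrix (Fin m) (Fin m) F) = 1
    from congrArg Subtype.val (inv_mul_cancel A), one_mulVec]

/-- The embedding into the symplectic group. -/
def spHom (m : ℕ) : SpecialLinearGroup (Fin m) F →* Matrix.symplecticGroup (Fin m) F :=
  (doubleHom m).codRestrict _ doubleHom_mem_symplectic

theorem spHom_injective (m : ℕ) : Function.Injective (spHom (F := F) m) := fun _ _ h =>
  doubleHom_injective m (congrArg Subtype.val h)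

/-- An injective matrix representation preserving `Q` of a perfect group gives a subgroup of `Ω(Q)`. -/
theorem exists_omega_hom {ι : Type} [Fintype ι] [DecidableEq ι] (Q : (ι → F) → F) {H : Type*} [Group H]
    (hH : commutator H = ⊤) (ρ : H →* Matrix ι ι F) (hinj : Function.Injective ρ)
    (hQ : ∀ g v, Q (ρ g *ᵥ v) = Q v) :
    ∃ ψ : H →* ↥(Cfsg.Omega F Q), Function.Injective ψ := by
  let ψ₀ : H →* ↥(Cfsg.isometryGroup F Q) := ρ.toHomUnits.codRestrict _ fun g => by
    intro u v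
    exact hQ g u
  have hinj0 : Function.Injective ψ₀ := fun a b h => hinj (congrArg (fun x => (x.1 : Matrix ι ι F)) h)
  have hle : ∀ g, ψ₀ g ∈ Cfsg.Omega F Q := by
    intro g
    have : ψ₀ g ∈ (commutator H).map ψ₀ := ⟨g, by rw [hH]; trivial, rfl⟩
    rw [commutator_def, Subgroup.map_commutator] at this
    exact Subgroup.commutator_mono le_top le_top this
  exact ⟨ψ₀.codRestrict _ hle, fun a b h => hinj0 (congrArg Subtype.val h)⟩

/-- The unitary perm matrices. -/
theorem permSL_mem_SU {n q : ℕ} (σ : alternatingGroup (Fin n)) :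
    permSL (F := F) σ ∈ Cfsg.SU n F q := by
  intro u v
  show Cfsg.hermForm n F q ((σ.1⁻¹).permMatrix F *ᵥ u) ((σ.1⁻¹).permMatrix F *ᵥ v) = _
  rw [permMatrix_mulVec, permMatrix_mulVec]
  exact Equiv.sum_comp (σ.1⁻¹) fun i => u i * v i ^ q

end Field

/-- A non-trivial word has a non-central value in `SL_n(F)` when `n` or `|F|` is large. -/
theorem exists_sl_value (w : FreeGroup ℕ) (hw : w ≠ 1) :
    ∃ N : ℕ, 5 ≤ N ∧
      (∀ n : ℕ, N ≤ n → ∃ f : ℕ → alternatingGroup (Fin n),
        FreeGroup.lift f w ∉ Subgroup.center (alternatingGroup (Fin n))) ∧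
      (∀ (F : Type) [Field F] [Fintype F], N ≤ Fintype.card F →
        ∃ f : ℕ → SpecialLinearGroup (Fin 2) F,
          FreeGroup.lift f w ∉ Subgroup.center (SpecialLinearGroup (Fin 2) F)) ∧
      (∀ (F : Type) [Field F] [Fintype F] (n : ℕ), 2 ≤ n → (N ≤ n ∨ N ≤ Fintype.card F) →
        ∃ f : ℕ → SpecialLinearGroup (Fin n) F,
          FreeGroup.lift f w ∉ Subgroup.center (SpecialLinearGroup (Fin n) F)) := by
  obtain ⟨N₁, h₁⟩ := exists_alternating_value w hw
  obtain ⟨N₂, h₂⟩ := exists_sl2_value.{0} w hw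
  have hA : ∀ n : ℕ, N₁ + N₂ + 5 ≤ n → ∃ f : ℕ → alternatingGroup (Fin n),
      FreeGroup.lift f w ∉ Subgroup.center (alternatingGroup (Fin n)) := by
    intro n hn
    obtain ⟨f, hf⟩ := h₁ n (by omega)
    refine ⟨f, ?_⟩
    rwa [alternatingGroup.center_eq_bot (by simp; omega), Subgroup.mem_bot]
  have h2' : ∀ (F : Type) [Field F] [Fintype F], N₁ + N₂ + 5 ≤ Fintype.card F →
      ∃ f : ℕ → SpecialLinearGroup (Fin 2) F,
        FreeGroup.lift f w ∉ Subgroup.center (SpecialLinearGroup (Fin 2) F) := by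
    intro F _ _ hF
    obtain ⟨f, hf⟩ := h₂ F (by omega)
    refine ⟨f, fun h => hf ?_⟩
    obtain ⟨r, -, hr⟩ := Matrix.SpecialLinearGroup.mem_center_iff.1 h
    rw [← hr]; simp
  refine ⟨N₁ + N₂ + 5, by omega, hA, h2', fun F _ _ n hn2 h => ?_⟩
  rcases h with h | h
  · obtain ⟨f, hf⟩ := hA n h
    exact ⟨fun i => permSL (f i), by
      rw [lift_map (permSL (F := F))]; exact map_not_mem_center _ permSL_injective hf⟩
  · obtain ⟨f, hf⟩ := h2' F h
    let e : Fin 2 ⊕ Fin (n - 2) ≃ Fin n := finSumFinEquiv.trans (finCongr (by omega))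
    exact ⟨fun i => blockSL e (f i), by
      rw [lift_map (blockSL e)]; exact map_not_mem_center _ (blockSL_injective e) hf⟩

end Cfsg.Agent.WordLaws
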