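import Mathlib
import Cfsg.Prelude.Def_Classical
import Cfsg.Agent.WordLaws.Embed

/-!
A copy of `SL₂(q)` inside `SU_n(q)` for the diagonal Hermitian form.
-/

set_option autoImplicit false

namespace Cfsg.Agent.WordLaws

open Matrix

variable {F : Type} [Field F] [Fintype F]

/-- The subfield with `q` elements, and an injection of `SL₂` of it into `SU_n`. -/
theorem exists_subfield_hom {n q : ℕ} (hF : Fintype.card F = q ^ 2) (hn : 2 ≤ n) :
    ∃ (F₀ : Subfield F) (ψ : Matrix.SpecialLinearGroup (Fin 2) F₀ →* ↥(Cfsg.SU n F q)),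
      q - 1 ≤ Nat.card F₀ ∧ Function.Injective ψ := by
  classical
  set p := ringChar F
  haveI hp : Fact p.Prime := ⟨CharP.char_is_prime F p⟩
  haveI : ExpChar F p := ExpChar.prime hp.out
  obtain ⟨k, -, hk⟩ := FiniteField.card F p
  have hq2 : 2 ≤ q := by
    have := Fintype.one_lt_card (α := F)
    rw [hF] at this
    by_contra h
    interval_cases q <;> simp at this
  obtain ⟨f, hf⟩ : ∃ f, q = p ^ f := by
    obtain ⟨f, -, hf⟩ := (Nat.dvd_prime_pow hp.out).1 (hk ▸ hF ▸ dvd_pow_self q (two_ne_zero))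
    exact ⟨f, hf⟩
  let φ : F →+* F := iterateFrobenius F p f
  have hφ : ∀ x, φ x = x ^ q := fun x => by rw [hf]; exact iterateFrobenius_def ..
  have hφφ : ∀ x, φ (φ x) = x := fun x => by
    rw [hφ, hφ, ← pow_mul, ← pow_two, ← hF, FiniteField.pow_card]
  let F₀ : Subfield F := φ.eqLocusField (RingHom.id F)
  have hmem : ∀ x, x ∈ F₀ ↔ φ x = x := fun x => Iff.rfl
  -- size of the subfield
  have hcard : q - 1 ≤ Nat.card F₀ := by
    let N : F → F₀ := fun x => ⟨x * φ x, by rw [hmem, map_mul, hφφ, mul_comm]⟩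
    have hfib : ∀ y : F₀, (Finset.univ.filter fun x => N x = y).card ≤ q + 1 := by
      intro y
      let P : Polynomial F := Polynomial.X ^ (q + 1) - Polynomial.C (y : F)
      have hP : P.natDegree = q + 1 := Polynomial.natDegree_X_pow_sub_C
      have hP0 : P ≠ 0 := fun e => by rw [e, Polynomial.natDegree_zero] at hP; omega
      refine le_trans (Finset.card_le_card (t := P.roots.toFinset) ?_) ?_
      · intro x hx
        rw [Finset.mem_filter] at hx
        rw [Multiset.mem_toFinset, Polynomial.mem_roots hP0]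
        have := congrArg Subtype.val hx.2
        simp only [N, hφ] at this
        simp [P, ← this, pow_succ, mul_comm]
      · exact (Multiset.toFinset_card_le _).trans (P.card_roots'.trans_eq hP)
    have h := Finset.card_le_mul_card_image (Finset.univ : Finset F) (q + 1) (f := N) fun y _ => hfib y
    rw [Finset.card_univ, hF] at h
    have h' : (Finset.univ.image N).card ≤ Fintype.card F₀ := Finset.card_le_univ _
    have h3 : q ^ 2 ≤ (q + 1) * Fintype.card F₀ := h.trans (Nat.mul_le_mul_left _ h')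
    rw [Nat.card_eq_fintype_card]
    by_contra hlt
    have : (q + 1) * (Fintype.card F₀ + 1) ≤ (q + 1) * (q - 1) := Nat.mul_le_mul_left _ (by omega)
    have h4 : (q + 1) * (q - 1) + 1 = q ^ 2 := by
      obtain ⟨r, rfl⟩ : ∃ r, q = r + 1 := ⟨q - 1, by omega⟩
      rw [Nat.add_sub_cancel]; ring
    rw [mul_add, mul_one] at this
    omega
  -- the isotropic basis
  obtain ⟨γ, hγ⟩ := IsCyclic.exists_ofOrder_eq_natCard (α := Fˣ)
  rw [Nat.card_units, Nat.card_eq_fintype_card, hF] at hγ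
  have hsq : q ^ 2 - 1 = (q - 1) * (q + 1) := by
    obtain ⟨r, rfl⟩ : ∃ r, q = r + 1 := ⟨q - 1, by omega⟩
    rw [Nat.add_sub_cancel]
    have : (r + 1) ^ 2 = r * (r + 1 + 1) + 1 := by ring
    omega
  obtain ⟨z, hz⟩ : ∃ z : F, z * φ z = -1 := by
    have hγgen : ∀ x : Fˣ, x ∈ Subgroup.zpowers γ := by
      intro x
      have := Subgroup.eq_top_of_card_eq (Subgroup.zpowers γ)
        (by rw [Nat.card_zpowers, hγ, Nat.card_units, Nat.card_eq_fintype_card, hF])
      rw [this]; trivial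
    obtain ⟨j, hj⟩ := Subgroup.mem_zpowers_iff.1 (hγgen (-1))
    have h1 : γ ^ (j * ((q - 1 : ℕ) : ℤ)) = 1 := by
      rw [_root_.zpow_mul, hj, zpow_natCast]
      apply Units.ext
      simp only [Units.val_pow_eq_pow_val, Units.val_neg, Units.val_one]
      have h2 : φ (-1) = -1 := by simp
      rw [hφ] at h2
      have h3 : (-1 : F) ^ (q - 1) * (-1) = -1 := by rw [← pow_succ, Nat.sub_add_cancel (by omega)]; exact h2
      simpa using h3
    have hd : ((q + 1 : ℕ) : ℤ) * ((q - 1 : ℕ) : ℤ) ∣ j * ((q - 1 : ℕ) : ℤ) := by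
      have := orderOf_dvd_iff_zpow_eq_one.2 h1
      rw [hγ, hsq] at this
      rwa [mul_comm ((q + 1 : ℕ) : ℤ), ← Nat.cast_mul]
    obtain ⟨i, hi⟩ := Int.dvd_of_mul_dvd_mul_right (by omega) hd
    refine ⟨((γ ^ i : Fˣ) : F), ?_⟩
    rw [hφ, ← pow_succ', ← Units.val_pow_eq_pow_val, ← zpow_natCast, ← _root_.zpow_mul, mul_comm i, ← hi, hj]
    simp
  obtain ⟨μ, hμ, hμ1⟩ : ∃ μ : F, μ * φ μ = 1 ∧ μ ≠ 1 := by
    refine ⟨((γ ^ (q - 1) : Fˣ) : F), ?_, ?_⟩
    · rw [hφ, ← pow_succ', ← Units.val_pow_eq_pow_val, ← pow_mul, ← hsq, ← hγ, pow_orderOf_eq_one]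
      simp
    · intro h
      have := orderOf_dvd_of_pow_eq_one (x := γ) (n := q - 1) (Units.ext h)
      rw [hγ, hsq] at this
      have := Nat.le_of_dvd (by omega) this
      have : (q - 1) * 1 < (q - 1) * (q + 1) := Nat.mul_lt_mul_of_pos_left (by omega) (by omega)
      omega
  have hγfix : φ (γ : F) ≠ (γ : F) := by
    intro h
    have h1 : γ ^ (q - 1) = 1 := by
      apply Units.ext
      have h2 : (γ : F) ^ (q - 1) * γ = 1 * γ := by
        rw [← pow_succ, Nat.sub_add_cancel (by omega), ← hφ, h, one_mul]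
      simpa using mul_right_cancel₀ γ.ne_zero h2
    have := orderOf_dvd_of_pow_eq_one h1
    rw [hγ, hsq] at this
    have := Nat.le_of_dvd (by omega) this
    have : (q - 1) * 1 < (q - 1) * (q + 1) := Nat.mul_lt_mul_of_pos_left (by omega) (by omega)
    omega
  set δ : F := (γ : F) - φ (γ : F) with hδdef
  have hδ0 : δ ≠ 0 := sub_ne_zero.2 (Ne.symm hγfix)
  have hδ : φ δ = -δ := by rw [hδdef, map_sub, hφφ]; ring
  set w : F := z * μ with hwdef
  have hz0 : z ≠ 0 := fun e => by simp [e] at hz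
  have hwz : w - z ≠ 0 := fun e => hμ1 (mul_left_cancel₀ hz0 (by rw [mul_one]; exact sub_eq_zero.1 e))
  have hw : w * φ w = -1 := by
    rw [hwdef, map_mul, mul_mul_mul_comm, hz, hμ, mul_one]
  have hd0 : 1 + z * φ w ≠ 0 := by
    intro e
    apply hwz
    have h1 : z * φ w = z * φ z := by rw [hz]; linear_combination e
    rw [φ.injective (mul_left_cancel₀ hz0 h1), sub_self]
  set c : F := φ (δ / (1 + z * φ w)) with hcdef
  have hc1 : φ c * (1 + z * φ w) = δ := by rw [hcdef, hφφ, div_mul_cancel₀ _ hd0]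
  have hc2 : c * (1 + w * φ z) = -δ := by
    have := congrArg φ hc1
    rw [map_mul, hφφ, map_add, map_one, map_mul, hφφ, hδ] at this
    linear_combination this
  have hc0 : c ≠ 0 := fun e => hδ0 (by rw [← hc1, e, map_zero, zero_mul])
  let P : Matrix (Fin 2) (Fin 2) F := !![1, c; z, c * w]
  have hP : IsUnit P.det := by
    rw [Matrix.det_fin_two_of, show (1 : F) * (c * w) - c * z = c * (w - z) by ring]
    exact (mul_ne_zero hc0 hwz).isUnit
  let skew : (Fin 2 → F) → (Fin 2 → F) → F := fun a b => δ * (a 0 * φ (b 1) - a 1 * φ (b 0))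
  let h2 : (Fin 2 → F) → (Fin 2 → F) → F := fun a b => a 0 * φ (b 0) + a 1 * φ (b 1)
  have hPform : ∀ a b, h2 (P *ᵥ a) (P *ᵥ b) = skew a b := by
    intro a b
    simp only [h2, skew, P, Matrix.mulVec, dotProduct, Fin.sum_univ_two, Matrix.of_apply,
      Matrix.cons_val', Matrix.cons_val_zero, Matrix.cons_val_one, Matrix.empty_val',
      Matrix.cons_val_fin_one, map_add, map_mul, map_one, one_mul]
    linear_combination (a 0 * φ (b 0)) * hz + (c * φ c * a 1 * φ (b 1)) * hw + (a 0 * φ (b 1)) * hc1 +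
      (a 1 * φ (b 0)) * hc2
  let conjP : Matrix.SpecialLinearGroup (Fin 2) F₀ →* Matrix.SpecialLinearGroup (Fin 2) F :=
    { toFun := fun g => ⟨P * ((g : Matrix (Fin 2) (Fin 2) F₀).map F₀.subtype) * P⁻¹, by
        rw [Matrix.det_mul, Matrix.det_mul, mul_right_comm, ← Matrix.det_mul, Matrix.mul_nonsing_inv _ hP,
          Matrix.det_one, one_mul, show ((g : Matrix (Fin 2) (Fin 2) F₀).map F₀.subtype) = F₀.subtype.mapMatrix (g : Matrix (Fin 2) (Fin 2) F₀) from rfl,
          ← RingHom.map_det, g.2, map_one]⟩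
      map_one' := Subtype.ext (by simp [Matrix.mul_nonsing_inv _ hP])
      map_mul' := fun g h => Subtype.ext (by
        show P * (((g * h : Matrix.SpecialLinearGroup (Fin 2) F₀) : Matrix (Fin 2) (Fin 2) F₀).map F₀.subtype) * P⁻¹ = (P * ((g : Matrix (Fin 2) (Fin 2) F₀).map F₀.subtype) * P⁻¹) *
          (P * ((h : Matrix (Fin 2) (Fin 2) F₀).map F₀.subtype) * P⁻¹)
        rw [Matrix.SpecialLinearGroup.coe_mul, Matrix.map_mul]
        simp only [Matrix.mul_assoc, Matrix.nonsing_inv_mul_cancel_left _ _ hP]) }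
  have hconjinj : Function.Injective conjP := by
    intro g h e
    have e1 : P * ((g : Matrix (Fin 2) (Fin 2) F₀).map F₀.subtype) * P⁻¹ =
        P * ((h : Matrix (Fin 2) (Fin 2) F₀).map F₀.subtype) * P⁻¹ := congrArg Subtype.val e
    have e2 := congrArg (fun M => P⁻¹ * M * P) e1
    simp only [Matrix.mul_assoc, Matrix.nonsing_inv_mul _ hP, Matrix.mul_one,
      Matrix.nonsing_inv_mul_cancel_left _ _ hP] at e2
    exact Subtype.ext (Matrix.map_injective F₀.subtype_injective e2)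
  have hconj : ∀ g u v, h2 ((conjP g : Matrix (Fin 2) (Fin 2) F) *ᵥ u) ((conjP g : Matrix (Fin 2) (Fin 2) F) *ᵥ v)
      = h2 u v := by
    intro g u v
    set G : Matrix (Fin 2) (Fin 2) F := (g : Matrix (Fin 2) (Fin 2) F₀).map F₀.subtype with hG
    show h2 ((P * G * P⁻¹) *ᵥ u) ((P * G * P⁻¹) *ᵥ v) = _
    have hu : ∀ x : Fin 2 → F, P *ᵥ (P⁻¹ *ᵥ x) = x := fun x => by
      rw [Matrix.mulVec_mulVec, Matrix.mul_nonsing_inv _ hP, Matrix.one_mulVec]
    rw [← Matrix.mulVec_mulVec, ← Matrix.mulVec_mulVec, ← Matrix.mulVec_mulVec, ← Matrix.mulVec_mulVec, hPform]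
    conv_rhs => rw [← hu u, ← hu v, hPform]
    have hfix : ∀ i j, φ (G i j) = G i j := fun i j => ((g : Matrix (Fin 2) (Fin 2) F₀) i j).2
    have hdet : G 0 0 * G 1 1 - G 0 1 * G 1 0 = 1 := by
      have := congrArg F₀.subtype g.2
      rw [Matrix.det_fin_two, map_sub, map_mul, map_mul, map_one] at this
      exact this
    generalize P⁻¹ *ᵥ u = a
    generalize P⁻¹ *ᵥ v = b
    simp only [skew, Matrix.mulVec, dotProduct, Fin.sum_univ_two, map_add, map_mul, hfix]
    linear_combination (δ * (a 0 * φ (b 1) - a 1 * φ (b 0))) * hdet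
  let e : Fin 2 ⊕ Fin (n - 2) ≃ Fin n := finSumFinEquiv.trans (finCongr (by omega))
  let χ := (blockSL (F := F) e).comp conjP
  have hχ : ∀ g, χ g ∈ Cfsg.SU n F q := by
    intro g u v
    show Cfsg.hermForm n F q ((Matrix.reindex e e (Matrix.fromBlocks (conjP g : Matrix (Fin 2) (Fin 2) F) 0 0 1)) *ᵥ u)
      ((Matrix.reindex e e (Matrix.fromBlocks (conjP g : Matrix (Fin 2) (Fin 2) F) 0 0 1)) *ᵥ v) = _
    have hs : ∀ x y : Fin n → F, Cfsg.hermForm n F q x y =
        h2 (x ∘ e ∘ Sum.inl) (y ∘ e ∘ Sum.inl) + ∑ i, x (e (Sum.inr i)) * φ (y (e (Sum.inr i))) := by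
      intro x y
      rw [Cfsg.hermForm, ← Equiv.sum_comp e, Fintype.sum_sum_type, Fin.sum_univ_two]
      simp [h2, hφ]
    rw [hs, hs, Matrix.reindex_apply, Matrix.submatrix_mulVec_equiv, Matrix.submatrix_mulVec_equiv]
    simp only [Matrix.fromBlocks_mulVec, Equiv.symm_symm, Matrix.zero_mulVec, add_zero, zero_add,
      Matrix.one_mulVec, ← Function.comp_assoc, Function.comp_def, Equiv.symm_apply_apply, Sum.elim_inl,
      Sum.elim_inr]
    exact congrArg (· + _) (hconj g _ _)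
  exact ⟨F₀, χ.codRestrict _ hχ, hcard, fun g h e' =>
    hconjinj (blockSL_injective e (congrArg Subtype.val e'))⟩

end Cfsg.Agent.WordLaws
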